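import Mathlib.RingTheory.Kaehler.Basic
import Mathlib.RingTheory.Ideal.Cotangent
import Mathlib.RingTheory.Smooth.Basic
import Mathlib.RingTheory.Smooth.Kaehler
import Mathlib.RingTheory.Finiteness.Projective
import Mathlib.RingTheory.Jacobson.Ring
import Mathlib.FieldTheory.IsAlgClosed.Basic
import Mathlib.Algebra.MvPolynomial.Funext

/-!
# Functions singular at a point of a smooth affine variety, and the linear systems they form
-/

set_option autoImplicit false
set_option linter.style.haveILetI false
universe u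
open TensorProduct KaehlerDifferential Module MvPolynomial

noncomputable section

namespace Groth.Agent.LefDualLib

variable {k : Type u} [Field k] {A : Type u} [CommRing A] [Algebra k A]

/-- The function `s` vanishes at `p` together with its differential. -/
def Sing (p : A →ₐ[k] k) (s : A) : Prop :=
  p s = 0 ∧ ∀ ψ : Ω[A⁄k] →ₗ[A] A, p (ψ (D k A s)) = 0

theorem sing_of_mem_sq (p : A →ₐ[k] k) {s : A} (hs : s ∈ RingHom.ker p ^ 2) : Sing p s := by
  rw [pow_two] at hs
  refine Submodule.mul_induction_on hs (fun a ha b hb => ?_) fun a b ha hb => ?_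
  · rw [RingHom.mem_ker] at ha hb
    refine ⟨by rw [map_mul, ha, zero_mul], fun ψ => ?_⟩
    rw [Derivation.leibniz, map_add, map_smul, map_smul, smul_eq_mul, smul_eq_mul, map_add, map_mul, map_mul, ha, hb,
      zero_mul, zero_mul, add_zero]
  · exact ⟨by rw [map_add, ha.1, hb.1, add_zero], fun ψ => by rw [map_add, map_add, map_add, ha.2 ψ, hb.2 ψ, add_zero]⟩

theorem mem_sq_of_sing [Module.Finite A Ω[A⁄k]] [Module.Projective A Ω[A⁄k]] (p : A →ₐ[k] k) {s : A}
    (hs : Sing p s) : s ∈ RingHom.ker p ^ 2 := by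
  classical
  let m : Ideal A := RingHom.ker p
  have hm : ∀ a, a - algebraMap k A (p a) ∈ m := fun a => by
    simp [m, RingHom.mem_ker]
  let δ₀ : A →ₗ[k] m.Cotangent :=
    { toFun := fun a => m.toCotangent ⟨_, hm a⟩
      map_add' := fun a b => by
        rw [← map_add]
        exact congrArg _ (Subtype.ext (by simp [map_add]; ring))
      map_smul' := fun c a => by
        rw [RingHom.id_apply, ← algebraMap_smul A c (m.toCotangent _), ← map_smul]
        exact congrArg _ (Subtype.ext (by simp [Algebra.smul_def, map_mul]; ring)) }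
  let δ : Derivation k A m.Cotangent := Derivation.mk' δ₀ fun a b => by
    show m.toCotangent _ = a • m.toCotangent _ + b • m.toCotangent _
    rw [← map_smul, ← map_smul, ← map_add, Ideal.toCotangent_eq]
    have : (a * b - algebraMap k A (p (a * b))) - (a * (b - algebraMap k A (p b)) + b * (a - algebraMap k A (p a))) =
        -((a - algebraMap k A (p a)) * (b - algebraMap k A (p b))) := by rw [map_mul, map_mul]; ring
    show (a * b - algebraMap k A (p (a * b))) - (a * (b - algebraMap k A (p b)) + b * (a - algebraMap k A (p a))) ∈ m ^ 2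
    rw [this, pow_two]
    exact neg_mem (Ideal.mul_mem_mul (hm a) (hm b))
  obtain ⟨M, f, g, -, -, hfg⟩ := Module.Finite.exists_comp_eq_id_of_projective A Ω[A⁄k]
  have hD : D k A s ∈ m • (⊤ : Submodule A Ω[A⁄k]) := by
    have hsum : g (D k A s) = ∑ i, (g (D k A s) i) • (Pi.single i (1 : A) : Fin M → A) := by
      conv_lhs => rw [pi_eq_sum_univ' (g (D k A s))]
    rw [show D k A s = f (g (D k A s)) from (LinearMap.congr_fun hfg (D k A s)).symm, hsum, map_sum]
    refine Submodule.sum_mem _ fun i _ => ?_
    rw [map_smul]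
    exact Submodule.smul_mem_smul (RingHom.mem_ker.2 (hs.2 ((LinearMap.proj i).comp g))) trivial
  have h0 : δ.liftKaehlerDifferential (D k A s) = 0 := by
    refine Submodule.smul_induction_on hD (fun a ha w _ => ?_) fun w w' hw hw' => by rw [map_add, hw, hw', add_zero]
    rw [map_smul]
    obtain ⟨z, hz⟩ := Ideal.toCotangent_surjective m (δ.liftKaehlerDifferential w)
    rw [← hz, ← map_smul, Ideal.toCotangent_eq_zero]
    show a * (z : A) ∈ m ^ 2
    rw [pow_two]
    exact Ideal.mul_mem_mul ha z.2
  rw [Derivation.liftKaehlerDifferential_comp_D] at h0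
  have h1 : m.toCotangent ⟨_, hm s⟩ = 0 := h0
  rw [Ideal.toCotangent_eq_zero] at h1
  simpa [hs.1] using h1

variable {V : Type u} [AddCommGroup V] [Module k V] {N : ℕ} (B : Module.Basis (Fin N) k V) (φ : V →ₗ[k] A)

/-- The value and differential of the general member. -/
def Psi : (Fin N → A) →ₗ[A] A × Ω[A⁄k] :=
  Fintype.linearCombination A fun i => (φ (B i), D k A (φ (B i)))

theorem psi_const (G : V) : Psi B φ (fun i => algebraMap k A (B.equivFun G i)) = (φ G, D k A (φ G)) := by
  conv_rhs => rw [← B.sum_equivFun G]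
  rw [Psi, Fintype.linearCombination_apply]
  simp only [map_sum, map_smul, Derivation.map_smul, algebraMap_smul]
  rw [Prod.ext_iff, Prod.fst_sum, Prod.snd_sum]
  exact ⟨rfl, rfl⟩

theorem psi_surjective (E : V) (hE : φ E = 1) {m : ℕ} (x : Fin m → A)
    (hx : Function.Surjective (MvPolynomial.aeval x : MvPolynomial (Fin m) k →ₐ[k] A))
    (hxV : ∀ i, ∃ G, φ G = x i) : Function.Surjective (Psi B φ) := by
  let R := LinearMap.range (Psi B φ)
  have hG : ∀ G, (φ G, D k A (φ G)) ∈ R := fun G => ⟨_, psi_const B φ G⟩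
  have h1 : ((1 : A), (0 : Ω[A⁄k])) ∈ R := by
    have h := hG E
    rwa [hE, Derivation.map_one_eq_zero] at h
  have h2 : ∀ G, ((0 : A), D k A (φ G)) ∈ R := fun G => by
    have h := sub_mem (hG G) (R.smul_mem (φ G) h1)
    simpa using h
  let S : Submodule A Ω[A⁄k] := R.comap (LinearMap.inr A A Ω[A⁄k])
  have h3 : ∀ a : A, D k A a ∈ S := fun a => by
    obtain ⟨q, rfl⟩ := hx a
    induction q using MvPolynomial.induction_on with
    | C c => simp
    | add q r hq hr => simp only [map_add]; exact add_mem hq hr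
    | mul_X q i hq =>
      simp only [map_mul, MvPolynomial.aeval_X, Derivation.leibniz]
      obtain ⟨G, hGi⟩ := hxV i
      exact add_mem (S.smul_mem _ (hGi ▸ h2 G)) (S.smul_mem _ hq)
  have h4 : S = ⊤ := by
    rw [eq_top_iff, ← KaehlerDifferential.span_range_derivation k A, Submodule.span_le]
    rintro _ ⟨a, rfl⟩; exact h3 a
  rintro ⟨a, w⟩
  have hw : ((0 : A), w) ∈ R := (h4.ge (Submodule.mem_top : w ∈ _) : w ∈ S)
  have h := add_mem (R.smul_mem a h1) hw
  simp only [Prod.smul_mk, smul_eq_mul, mul_one, smul_zero, Prod.mk_add_mk, add_zero, zero_add] at h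
  exact h

/-- A projection onto the kernel: it parametrises the members singular at each point. -/
theorem exists_param [Module.Finite A Ω[A⁄k]] [Module.Projective A Ω[A⁄k]] (hs : Function.Surjective (Psi B φ)) :
    ∃ P : (Fin N → A) →ₗ[A] (Fin N → A), ∀ (p : A →ₐ[k] k) (G : V),
      (Sing p (φ G) → (fun i => p (P (fun j => algebraMap k A (B.equivFun G j)) i)) = B.equivFun G) ∧
      ∀ t : Fin N → k, B.equivFun G = (fun i => p (P (fun j => algebraMap k A (t j)) i)) → Sing p (φ G) := by
  classical
  obtain ⟨σ, hσ⟩ := Module.projective_lifting_property (Psi B φ) LinearMap.id hs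
  refine ⟨LinearMap.id - σ.comp (Psi B φ), fun p G => ⟨fun hsing => ?_, fun t ht => ?_⟩⟩
  · obtain ⟨M, f, g, -, -, hfg⟩ := Module.Finite.exists_comp_eq_id_of_projective A Ω[A⁄k]
    let τ : Fin N → A := fun j => algebraMap k A (B.equivFun G j)
    have hker : Psi B φ τ ∈ RingHom.ker p • (⊤ : Submodule A (A × Ω[A⁄k])) := by
      rw [show Psi B φ τ = (φ G, D k A (φ G)) from psi_const B φ G]
      have e : (φ G, D k A (φ G)) = φ G • ((1 : A), (0 : Ω[A⁄k])) +
          ∑ l, g (D k A (φ G)) l • ((0 : A), f (Pi.single l 1)) := by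
        simp only [Prod.smul_mk, smul_eq_mul, mul_one, mul_zero, smul_zero, ← map_smul, Prod.ext_iff, Prod.fst_add,
          Prod.snd_add, Prod.fst_sum, Prod.snd_sum, Finset.sum_const_zero, add_zero, zero_add, ← map_sum,
          ← pi_eq_sum_univ', true_and]
        exact (LinearMap.congr_fun hfg _).symm
      rw [e]
      exact add_mem (Submodule.smul_mem_smul (RingHom.mem_ker.2 hsing.1) trivial)
        (Submodule.sum_mem _ fun l _ => Submodule.smul_mem_smul
          (RingHom.mem_ker.2 (hsing.2 ((LinearMap.proj l).comp g))) trivial)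
    have h0 : ∀ i, p (σ (Psi B φ τ) i) = 0 := fun i => by
      refine Submodule.smul_induction_on hker (fun a ha w _ => ?_) fun w w' hw hw' => ?_
      · rw [map_smul, Pi.smul_apply, smul_eq_mul, map_mul, RingHom.mem_ker.1 ha, zero_mul]
      · rw [map_add, Pi.add_apply, map_add, hw, hw', add_zero]
    funext i
    show p ((τ - σ (Psi B φ τ)) i) = _
    rw [Pi.sub_apply, map_sub, h0, sub_zero]
    exact p.commutes _
  · let w : Fin N → A := fun j => algebraMap k A (t j)
    let y := (LinearMap.id - σ.comp (Psi B φ) : (Fin N → A) →ₗ[A] (Fin N → A)) w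
    have hy : Psi B φ y = 0 := by
      show Psi B φ (w - σ (Psi B φ w)) = 0
      rw [map_sub, show Psi B φ (σ (Psi B φ w)) = Psi B φ w from LinearMap.congr_fun hσ _, sub_self]
    have hd : (fun j => algebraMap k A (B.equivFun G j)) - y ∈ RingHom.ker p • (⊤ : Submodule A (Fin N → A)) := by
      rw [pi_eq_sum_univ' ((fun j => algebraMap k A (B.equivFun G j)) - y)]
      refine Submodule.sum_mem _ fun i _ => Submodule.smul_mem_smul (RingHom.mem_ker.2 ?_) trivial
      rw [Pi.sub_apply, map_sub, p.commutes, ht]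
      exact sub_self _
    have hP : Psi B φ (fun j => algebraMap k A (B.equivFun G j)) ∈ RingHom.ker p • (⊤ : Submodule A (A × Ω[A⁄k])) := by
      have h : Psi B φ ((fun j => algebraMap k A (B.equivFun G j)) - y) ∈
          (RingHom.ker p • (⊤ : Submodule A (Fin N → A))).map (Psi B φ) := ⟨_, hd, rfl⟩
      rw [Submodule.map_smul'', map_sub, hy, sub_zero] at h
      exact Submodule.smul_mono le_rfl le_top h
    rw [psi_const] at hP
    have h0 : ∀ ℓ : (A × Ω[A⁄k]) →ₗ[A] A, p (ℓ (φ G, D k A (φ G))) = 0 := fun ℓ => by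
      refine Submodule.smul_induction_on hP (fun a ha v _ => ?_) fun v v' hv hv' => ?_
      · rw [map_smul, smul_eq_mul, map_mul, RingHom.mem_ker.1 ha, zero_mul]
      · rw [map_add, map_add, hv, hv', add_zero]
    exact ⟨h0 (LinearMap.fst A A _), fun ψ => h0 (ψ.comp (LinearMap.snd A A _))⟩

/-- A function on a reduced finite type algebra vanishing at all points is zero. -/
theorem eq_zero_of_forall_point [IsAlgClosed k] [Algebra.FiniteType k A] [IsReduced A] {a : A}
    (h : ∀ p : A →ₐ[k] k, p a = 0) : a = 0 := by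
  haveI : IsJacobsonRing A := isJacobsonRing_of_finiteType (A := k)
  have hj : a ∈ (⊥ : Ideal A).jacobson := by
    rw [Ideal.jacobson, Ideal.mem_sInf]
    rintro m ⟨-, hm⟩
    haveI := hm
    haveI : Algebra.FiniteType k (A ⧸ m) :=
      Algebra.FiniteType.of_surjective (Ideal.Quotient.mkₐ k m) Ideal.Quotient.mk_surjective
    letI : Field (A ⧸ m) := Ideal.Quotient.field m
    haveI : Module.Finite k (A ⧸ m) := finite_of_finite_type_of_isJacobsonRing k (A ⧸ m)
    have hb := IsAlgClosed.ringHom_bijective_of_isIntegral (algebraMap k (A ⧸ m)) (RingHom.IsIntegral.of_finite (by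
      rw [RingHom.finite_algebraMap]; infer_instance))
    let e : k ≃ₐ[k] A ⧸ m := AlgEquiv.ofBijective (Algebra.ofId k (A ⧸ m)) hb
    have h0 := h (e.symm.toAlgHom.comp (Ideal.Quotient.mkₐ k m))
    rw [← Ideal.Quotient.eq_zero_iff_mem]
    exact e.symm.injective (h0.trans (map_zero _).symm)
  have hb : (⊥ : Ideal A).jacobson = ⊥ := IsJacobsonRing.out inferInstance (by
    intro x ⟨n, hn⟩
    exact (show IsNilpotent x from ⟨n, hn⟩).eq_zero)
  rwa [hb] at hj

/-- A polynomial function on the space, pulled back to the total space of singular members. -/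
def pull (P : (Fin N → A) →ₗ[A] (Fin N → A)) (f : MvPolynomial (Fin N) k) : MvPolynomial (Fin N) A :=
  MvPolynomial.aeval (fun i => ∑ j, MvPolynomial.C (P (Pi.single j 1) i) * MvPolynomial.X j) f

theorem eval_map_pull (P : (Fin N → A) →ₗ[A] (Fin N → A)) (f : MvPolynomial (Fin N) k) (p : A →ₐ[k] k)
    (t : Fin N → k) : MvPolynomial.eval t (MvPolynomial.map p.toRingHom (pull P f)) =
      MvPolynomial.eval (fun i => p (P (fun j => algebraMap k A (t j)) i)) f := by
  classical
  have hlin : ∀ i, p (P (fun j => algebraMap k A (t j)) i) = ∑ j, p (P (Pi.single j 1) i) * t j := fun i => by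
    conv_lhs => rw [pi_eq_sum_univ' (fun j => algebraMap k A (t j))]
    simp only [map_sum, map_smul, Finset.sum_apply, Pi.smul_apply, smul_eq_mul, map_mul, AlgHom.commutes,
      Algebra.algebraMap_self, RingHom.id_apply]
    exact Finset.sum_congr rfl fun j _ => mul_comm _ _
  rw [pull]
  induction f using MvPolynomial.induction_on with
  | C c => simp
  | add f g hf hg => simp only [map_add, hf, hg]
  | mul_X f i hf =>
    simp only [map_mul]
    rw [hf]
    simp [hlin]

/-- The polynomial function vanishes on the members singular at `p` iff its pull-back vanishes at `p`. -/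
theorem map_pull_eq_zero_iff [Infinite k] {P : (Fin N → A) →ₗ[A] (Fin N → A)} {p : A →ₐ[k] k}
    (hP : ∀ G : V,
      (Sing p (φ G) → (fun i => p (P (fun j => algebraMap k A (B.equivFun G j)) i)) = B.equivFun G) ∧
      ∀ t : Fin N → k, B.equivFun G = (fun i => p (P (fun j => algebraMap k A (t j)) i)) → Sing p (φ G))
    (f : MvPolynomial (Fin N) k) :
    MvPolynomial.map p.toRingHom (pull P f) = 0 ↔ ∀ G, Sing p (φ G) → MvPolynomial.eval (B.equivFun G) f = 0 := by
  refine ⟨fun h G hG => ?_, fun h => MvPolynomial.funext fun t => ?_⟩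
  · rw [← (hP G).1 hG, ← eval_map_pull, h, map_zero]
  · obtain ⟨G, hG⟩ := B.equivFun.surjective fun i => p (P (fun j => algebraMap k A (t j)) i)
    rw [map_zero, eval_map_pull, ← hG]
    exact h G ((hP G).2 t hG)

end Groth.Agent.LefDualLib
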