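import Groth.Agent.BertiniAff.Main
import Groth.Agent.LefDualLib.Pts

/-!
# Cutting by a function with non-vanishing differential, and the converse
-/

set_option autoImplicit false
set_option maxHeartbeats 600000
set_option backward.isDefEq.respectTransparency false
set_option linter.style.haveILetI false
universe u
open TensorProduct KaehlerDifferential Module AlgebraicGeometry

noncomputable section

namespace Groth.Agent.LefDualLib

variable {k : Type u} [Field k] {A : Type u} [CommRing A] [Algebra k A] [Algebra.Smooth k A]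

/-- Standard smooth neighbourhoods with differentials of the right rank. -/
theorem exists_chart_basis {m r : ℕ} (x : Fin m → A)
    (hx : Function.Surjective (MvPolynomial.aeval x : MvPolynomial (Fin m) k →ₐ[k] A))
    (hdim : ∀ P ∈ minimalPrimes A, ringKrullDim (A ⧸ P) = r) (p : Ideal A) [p.IsPrime] :
    ∃ f : A, f ∉ p ∧ Algebra.IsStandardSmooth k (Localization.Away f) ∧
      Nonempty (Basis (Fin r) (Localization.Away f) Ω[Localization.Away f⁄k]) := by
  haveI : Algebra.IsSmoothAt k p :=
    Algebra.basicOpen_subset_smoothLocus_iff_smooth.2 (show Algebra.Smooth k (Localization.Away (1 : A)) by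
      haveI : Algebra.Smooth A (Localization.Away (1 : A)) := Algebra.Smooth.of_isLocalization_Away 1
      exact Algebra.Smooth.comp k A _) (show (⟨p, inferInstance⟩ : PrimeSpectrum A) ∈ PrimeSpectrum.basicOpen 1 from
        fun h => ‹p.IsPrime›.ne_top ((Ideal.eq_top_iff_one p).2 h))
  obtain ⟨f, hf, hfs⟩ := Algebra.IsSmoothAt.exists_notMem_isStandardSmooth k p
  haveI := hfs
  haveI : Nontrivial (Localization.Away f) := by
    refine ⟨0, 1, fun h => ?_⟩
    obtain ⟨P', hP', -⟩ := DimFormulaLib.trdeg_away k A hf (DimFormulaLib.exists_nat_trdeg_quotient k A p).choose_spec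
    exact hP'.ne_top ((Ideal.eq_top_iff_one P').2 (h ▸ P'.zero_mem))
  obtain ⟨b, -⟩ := BertiniAff.exists_poly_transversal k x hx hdim f
  exact ⟨f, hf, hfs, ⟨b⟩⟩

theorem not_mem_of_dual {f : A} {r : ℕ} (b : Basis (Fin r) (Localization.Away f) Ω[Localization.Away f⁄k])
    (ψ : Ω[A⁄k] →ₗ[A] A) (s : A) (Q : Ideal (Localization.Away f))
    (h : algebraMap A (Localization.Away f) (ψ (D k A s)) ∉ Q) :
    ∃ l, b.repr (D k (Localization.Away f) (algebraMap A (Localization.Away f) s)) l ∉ Q := by
  by_contra! hcon
  let T := Localization.Away f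
  have hb : IsBaseChange T (KaehlerDifferential.map k k A T) := KaehlerDifferential.isBaseChange_of_formallyEtale k A T
  let ψT : Ω[T⁄k] →ₗ[T] T := hb.lift ((Algebra.linearMap A T).comp ψ)
  have e1 : ψT (D k T (algebraMap A T s)) = algebraMap A T (ψ (D k A s)) := by
    rw [← KaehlerDifferential.map_D k k A T s]
    exact hb.lift_eq _ _
  rw [← e1, ← b.sum_repr (D k T (algebraMap A T s)), map_sum] at h
  exact h (Q.sum_mem fun l _ => by rw [map_smul, smul_eq_mul]; exact Q.mul_mem_right _ (hcon l))

/-- A function whose differential is non-zero at a point of its zero locus cuts out a hypersurface smooth there. -/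
theorem smooth_cut_at {m r : ℕ} (x : Fin m → A)
    (hx : Function.Surjective (MvPolynomial.aeval x : MvPolynomial (Fin m) k →ₐ[k] A))
    (hdim : ∀ P ∈ minimalPrimes A, ringKrullDim (A ⧸ P) = r) (ℓ : A)
    (q : Ideal (A ⧸ Ideal.span {ℓ})) (hq : q.IsPrime)
    (hnd : ∃ ψ : Ω[A⁄k] →ₗ[A] A, ψ (D k A ℓ) ∉ q.comap (Ideal.Quotient.mk (Ideal.span {ℓ}))) :
    ∃ f : A ⧸ Ideal.span {ℓ}, f ∉ q ∧ SmoothOfRelativeDimension (r - 1)
      (Spec.map (CommRingCat.ofHom (algebraMap k (Localization.Away f)))) := by
  classical
  let mk := Ideal.Quotient.mk (Ideal.span {ℓ})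
  let p := q.comap mk
  haveI : p.IsPrime := Ideal.IsPrime.comap _
  obtain ⟨f, hfp, hfs, ⟨b⟩⟩ := exists_chart_basis x hx hdim p
  haveI := hfs
  let T := Localization.Away f
  have hd : Disjoint (Submonoid.powers f : Set A) p := Set.disjoint_left.2 fun y ⟨i, hi⟩ hy => hfp
    (‹p.IsPrime›.mem_of_pow_mem i (show f ^ i ∈ p by rwa [show f ^ i = y from hi]))
  let Q := p.map (algebraMap A T)
  haveI : Q.IsPrime := IsLocalization.isPrime_of_isPrime_disjoint _ _ p inferInstance hd
  have hℓp : ℓ ∈ p := by
    show mk ℓ ∈ q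
    rw [Ideal.Quotient.eq_zero_iff_mem.2 (Ideal.subset_span (Set.mem_singleton ℓ))]
    exact zero_mem _
  obtain ⟨ψ, hψ₀⟩ := hnd
  have hψ : ψ (D k A ℓ) ∉ p := hψ₀
  obtain ⟨l, hl⟩ := not_mem_of_dual b ψ ℓ Q fun hmem => hψ (by
    rw [← IsLocalization.under_map_of_isPrime_disjoint (Submonoid.powers f) T (I := p) inferInstance hd]
    exact hmem)
  obtain ⟨r', rfl⟩ : ∃ r', r = r' + 1 := ⟨r - 1, by have := l.2; omega⟩
  have hne : (1 : Q.ResidueField) ⊗ₜ[T] D k T (algebraMap A T ℓ) ≠ 0 := by
    intro h0
    have h2 := congrArg (fun z => (b.baseChange Q.ResidueField).repr z l) h0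
    erw [Basis.baseChange_repr_tmul, map_zero] at h2
    rw [Algebra.smul_def, mul_one, Finsupp.zero_apply] at h2
    exact hl (Ideal.algebraMap_residueField_eq_zero.1 h2)
  obtain ⟨c, hcQ, hstd⟩ := BertiniAff.exists_smooth_section k b Q (algebraMap A T ℓ) hne
  let c' := (IsLocalization.Away.sec f c).1
  let U := Localization.Away c
  haveI : IsLocalization.Away (f * c') U :=
    .mul_of_associated _ _ c <| IsLocalization.Away.associated_sec_fst f c
  have hc' : c' ∉ p := fun h => hcQ (by
    rw [Ideal.mem_iff_of_associated (IsLocalization.Away.associated_sec_fst f c).symm]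
    exact Ideal.mem_map_of_mem _ h)
  refine ⟨mk (f * c'), fun h => ?_, ?_⟩
  · exact (‹p.IsPrime›.mem_or_mem (show f * c' ∈ p from h)).elim hfp hc'
  · let U' := U ⧸ Ideal.span {algebraMap T U (algebraMap A T ℓ)}
    have hmapspan : (Ideal.span {ℓ}).map (algebraMap A U) = Ideal.span {algebraMap T U (algebraMap A T ℓ)} := by
      rw [Ideal.map_span, Set.image_singleton, IsScalarTower.algebraMap_apply A T U]
    letI : Algebra (A ⧸ Ideal.span {ℓ}) U' :=
      RingHom.toAlgebra (R := A ⧸ Ideal.span {ℓ}) (S := U') (Ideal.quotientMap (Ideal.span {algebraMap T U (algebraMap A T ℓ)}) (algebraMap A U)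
        (Ideal.map_le_iff_le_comap.1 hmapspan.le))
    haveI : IsScalarTower k (A ⧸ Ideal.span {ℓ}) U' := IsScalarTower.of_algebraMap_eq fun a => by
      show Ideal.Quotient.mk _ (algebraMap k U a) = Ideal.Quotient.mk _ (algebraMap A U (algebraMap k A a))
      exact congrArg _ (IsScalarTower.algebraMap_apply k A U a)
    haveI : IsLocalization (Submonoid.powers (mk (f * c'))) U' := by
      let g' : U →+* U' := Ideal.Quotient.mk (Ideal.span {algebraMap T U (algebraMap A T ℓ)})
      have hg' : Function.Surjective g' := Ideal.Quotient.mk_surjective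
      have hH : g'.comp (algebraMap A U) = (algebraMap (A ⧸ Ideal.span {ℓ}) U').comp mk := by
        refine RingHom.ext fun y => ?_
        simp only [RingHom.comp_apply]
        exact (Ideal.quotientMap_mk (f := algebraMap A U) (J := Ideal.span {ℓ})).symm
      have hK : RingHom.ker g' ≤ (RingHom.ker mk).map (algebraMap A U) := by
        rw [show RingHom.ker g' = _ from Ideal.mk_ker, show RingHom.ker mk = _ from Ideal.mk_ker, hmapspan]
      have h := IsLocalization.of_surjective (R' := A ⧸ Ideal.span {ℓ}) (S' := U') (Submonoid.powers (f * c')) U mk Ideal.Quotient.mk_surjective g' hg' hH hK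
      rwa [Submonoid.map_powers] at h
    let e : U' ≃ₐ[A ⧸ Ideal.span {ℓ}] Localization.Away (mk (f * c')) :=
      IsLocalization.algEquiv (Submonoid.powers (mk (f * c'))) _ _
    have hfin : Algebra.IsStandardSmoothOfRelativeDimension r' k (Localization.Away (mk (f * c'))) :=
      haveI := hstd
      Algebra.IsStandardSmoothOfRelativeDimension.of_algEquiv (R := k) (S := U') r' (T := Localization.Away (mk (f * c'))) (e.restrictScalars k)
    rw [show r' + 1 - 1 = r' by omega, HasRingHomProperty.Spec_iff (P := @SmoothOfRelativeDimension r')]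
    exact RingHom.locally_of RingHom.isStandardSmoothOfRelativeDimension_respectsIso _
      ((RingHom.isStandardSmoothOfRelativeDimension_algebraMap _).2 hfin)

/-- A function whose differential vanishes nowhere on its zero locus cuts out a smooth hypersurface. -/
theorem smooth_cut {m r : ℕ} (x : Fin m → A)
    (hx : Function.Surjective (MvPolynomial.aeval x : MvPolynomial (Fin m) k →ₐ[k] A))
    (hdim : ∀ P ∈ minimalPrimes A, ringKrullDim (A ⧸ P) = r) (ℓ : A)
    (hnd : ∀ p : Ideal A, p.IsPrime → ℓ ∈ p → ∃ ψ : Ω[A⁄k] →ₗ[A] A, ψ (D k A ℓ) ∉ p)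
    (q : Ideal (A ⧸ Ideal.span {ℓ})) (hq : q.IsPrime) :
    ∃ f : A ⧸ Ideal.span {ℓ}, f ∉ q ∧ SmoothOfRelativeDimension (r - 1)
      (Spec.map (CommRingCat.ofHom (algebraMap k (Localization.Away f)))) :=
  smooth_cut_at x hx hdim ℓ q hq (hnd _ (Ideal.IsPrime.comap _) (by
    show Ideal.Quotient.mk (Ideal.span {ℓ}) ℓ ∈ q
    rw [Ideal.Quotient.eq_zero_iff_mem.2 (Ideal.subset_span (Set.mem_singleton ℓ))]
    exact zero_mem _))

/-- If `s` is singular at a point, the hypersurface it cuts is not smooth of one less dimension there. -/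
theorem not_smooth_of_sing {m r : ℕ} (x : Fin m → A)
    (hx : Function.Surjective (MvPolynomial.aeval x : MvPolynomial (Fin m) k →ₐ[k] A))
    (hdim : ∀ P ∈ minimalPrimes A, ringKrullDim (A ⧸ P) = r) (hr : 1 ≤ r) (s : A) (p : A →ₐ[k] k) (hs : Sing p s)
    (hsm : SmoothOfRelativeDimension (r - 1)
      (Spec.map (CommRingCat.ofHom (algebraMap k (A ⧸ Ideal.span {s}))))) : False := by
  classical
  haveI : (RingHom.ker p).IsPrime := RingHom.ker_isPrime _
  have hker : Ideal.span {s} ≤ RingHom.ker p := (Ideal.span_singleton_le_iff_mem _).2 (RingHom.mem_ker.2 hs.1)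
  obtain ⟨f, hf, -, ⟨b⟩⟩ := exists_chart_basis x hx hdim (RingHom.ker p)
  let T := Localization.Away f
  have hfu : IsUnit (p f) := isUnit_iff_ne_zero.2 fun h => hf h
  let pT : T →ₐ[k] k := IsLocalization.Away.liftAlgHom (S := T) f (f := p) hfu
  let δ : Fin r → A → k := fun l a => pT (b.repr (D k T (algebraMap A T a)) l)
  let B := A ⧸ Ideal.span {s}
  let pB : B →ₐ[k] k := Ideal.Quotient.liftₐ _ p fun a ha => hker ha
  letI : Module B (Fin r → k) := Module.compHom _ pB.toRingHom
  haveI : IsScalarTower k B (Fin r → k) := ⟨fun c y v => by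
    show pB (c • y) • v = c • (pB y • v)
    rw [map_smul, smul_assoc]⟩
  have hpT : ∀ a, pT (algebraMap A T a) = p a := fun a => IsLocalization.Away.lift_eq f hfu a
  have hδ : ∀ l a c, δ l (a * c) = p a * δ l c + p c * δ l a := fun l a c => by
    simp only [δ, map_mul, Derivation.leibniz, map_add, map_smul, Finsupp.add_apply, Finsupp.smul_apply, smul_eq_mul,
      hpT]
  have hδs : ∀ l, δ l s = 0 := fun l => by
    obtain ⟨M, F, G, -, -, hFG⟩ := Module.Finite.exists_comp_eq_id_of_projective A Ω[A⁄k]
    show pT _ = 0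
    have e : D k T (algebraMap A T s) = ∑ i, algebraMap A T (G (D k A s) i) • KaehlerDifferential.map k k A T (F (Pi.single i 1)) := by
      rw [← KaehlerDifferential.map_D k k A T s]
      simp only [algebraMap_smul, ← map_smul, ← map_sum, ← pi_eq_sum_univ']
      exact congrArg _ (LinearMap.congr_fun hFG _).symm
    rw [e]
    simp only [map_sum, map_smul, Finsupp.finsetSum_apply, Finsupp.smul_apply, smul_eq_mul, map_mul, hpT]
    exact Finset.sum_eq_zero fun i _ => by
      rw [show p (G (D k A s) i) = 0 from hs.2 ((LinearMap.proj i).comp G), zero_mul]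
  -- the derivation of the quotient
  have hwd : ∀ a c, Ideal.Quotient.mk (Ideal.span {s}) a = Ideal.Quotient.mk (Ideal.span {s}) c → ∀ l, δ l a = δ l c := by
    intro a c h l
    obtain ⟨e, he⟩ := Ideal.mem_span_singleton'.1 (Ideal.Quotient.eq.1 h)
    have h' : δ l (e * s + c) = δ l c := by
      have : δ l (e * s + c) = δ l (e * s) + δ l c := by simp only [δ, map_add, Finsupp.add_apply]
      rw [this, hδ, hδs, hs.1, mul_zero, zero_mul, add_zero, zero_add]
    rwa [he, sub_add_cancel] at h'
  choose sec hsec using (Ideal.Quotient.mk_surjective (I := Ideal.span {s}))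
  let d₀ : B →ₗ[k] (Fin r → k) :=
    { toFun := fun y l => δ l (sec y)
      map_add' := fun y z => funext fun l => by
        rw [Pi.add_apply, hwd (sec (y + z)) (sec y + sec z) (by rw [map_add, hsec, hsec, hsec]) l]
        simp only [δ, map_add, Finsupp.add_apply]
      map_smul' := fun c y => funext fun l => by
        rw [RingHom.id_apply, Pi.smul_apply, hwd (sec (c • y)) (c • sec y) (by
          rw [← Ideal.Quotient.mkₐ_eq_mk k, map_smul, Ideal.Quotient.mkₐ_eq_mk, hsec, hsec]) l]
        simp only [δ]
        rw [← IsScalarTower.coe_toAlgHom' k A T, map_smul, Derivation.map_smul,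
          ← algebraMap_smul T c (D k T _), map_smul, Finsupp.smul_apply, smul_eq_mul, map_mul, AlgHom.commutes]
        rfl }
  let d : Derivation k B (Fin r → k) := Derivation.mk' d₀ fun y z => funext fun l => by
    show δ l (sec (y * z)) = pB y * δ l (sec z) + pB z * δ l (sec y)
    rw [hwd (sec (y * z)) (sec y * sec z) (by rw [map_mul, hsec, hsec, hsec]) l, hδ,
      show pB y = p (sec y) from (congrArg pB (hsec y)).symm,
      show pB z = p (sec z) from (congrArg pB (hsec z)).symm]
  -- it is surjective, so a free neighbourhood has too few generators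
  rw [HasRingHomProperty.Spec_iff (P := @SmoothOfRelativeDimension (r - 1)), CommRingCat.hom_ofHom] at hsm
  obtain ⟨gs, hspan, hloc⟩ := hsm
  obtain ⟨g, hg, hg0⟩ : ∃ g ∈ gs, pB g ≠ 0 := by
    by_contra! hcon
    have h1 : Ideal.span gs ≤ RingHom.ker pB := Ideal.span_le.2 fun g hg => RingHom.mem_ker.2 (hcon g hg)
    exact one_ne_zero ((map_one pB).symm.trans (RingHom.mem_ker.1 (h1 (hspan.ge Submodule.mem_top))))
  let U := Localization.Away g
  haveI : Algebra.IsStandardSmoothOfRelativeDimension (r - 1) k U := by
    rw [← RingHom.isStandardSmoothOfRelativeDimension_algebraMap, IsScalarTower.algebraMap_eq k B U]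
    exact hloc g hg
  haveI : Algebra.IsStandardSmooth k U := Algebra.IsStandardSmoothOfRelativeDimension.isStandardSmooth (r - 1)
  let pU : U →ₐ[k] k := IsLocalization.Away.liftAlgHom (S := U) g (f := pB) (isUnit_iff_ne_zero.2 hg0)
  letI : Module U (Fin r → k) := Module.compHom _ pU.toRingHom
  haveI : IsScalarTower k U (Fin r → k) := ⟨fun c y v => by
    show pU (c • y) • v = c • (pU y • v)
    rw [map_smul, smul_assoc]⟩
  have hpU : ∀ y, pU (algebraMap B U y) = pB y := fun y => IsLocalization.Away.lift_eq g (isUnit_iff_ne_zero.2 hg0) y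
  haveI : IsScalarTower B U (Fin r → k) := ⟨fun y z v => by
    funext l
    show pU (y • z) * v l = pB y * (pU z * v l)
    rw [Algebra.smul_def, map_mul, hpU, mul_assoc]⟩
  let L : Ω[B⁄k] →ₗ[B] (Fin r → k) := d.liftKaehlerDifferential
  have hbU : IsBaseChange U (KaehlerDifferential.map k k B U) := KaehlerDifferential.isBaseChange_of_formallyEtale k B U
  let LU : Ω[U⁄k] →ₗ[U] (Fin r → k) := hbU.lift L
  have hsur : ∀ v : Fin r → k, ∃ w, LU w = v := by
    -- the coordinate differentials realise the unit vectors
    have hspanT : ∀ w : Ω[T⁄k], (fun l => pT (b.repr w l)) ∈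
        Submodule.span k (Set.range fun a : A => (fun l => δ l a : Fin r → k)) := fun w => by
      have hw : w ∈ Submodule.span T (Set.range fun a : A => D k T (algebraMap A T a)) := by
        have hbT : IsBaseChange T (KaehlerDifferential.map k k A T) := KaehlerDifferential.isBaseChange_of_formallyEtale k A T
        induction w using hbT.inductionOn with
        | zero => exact zero_mem _
        | tmul m =>
          have hm : m ∈ Submodule.span A (Set.range (D k A)) := KaehlerDifferential.span_range_derivation k A ▸ trivial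
          induction hm using Submodule.span_induction with
          | mem z hz => obtain ⟨a, rfl⟩ := hz; rw [KaehlerDifferential.map_D]; exact Submodule.subset_span ⟨a, rfl⟩
          | zero => rw [map_zero]; exact zero_mem _
          | add _ _ _ _ h h' => rw [map_add]; exact add_mem h h'
          | smul c _ _ h => rw [map_smul, ← algebraMap_smul T c]; exact Submodule.smul_mem _ _ h
        | smul c _ h => exact Submodule.smul_mem _ _ h
        | add _ _ h h' => exact add_mem h h'
      induction hw using Submodule.span_induction with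
      | mem z hz => obtain ⟨a, rfl⟩ := hz; exact Submodule.subset_span ⟨a, rfl⟩
      | zero => simp only [map_zero, Finsupp.zero_apply]; exact zero_mem _
      | add y z _ _ h h' =>
        simp only [map_add, Finsupp.add_apply]
        exact add_mem h h'
      | smul c y _ h =>
        simp only [map_smul, Finsupp.smul_apply, smul_eq_mul, map_mul]
        exact Submodule.smul_mem _ (pT c) h
    intro v
    have hv : v ∈ Submodule.span k (Set.range fun a : A => (fun l => δ l a : Fin r → k)) := by
      have e : (fun l => pT (b.repr (∑ i, algebraMap k T (v i) • b i) l)) = v := by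
        funext l
        rw [b.repr_sum_self]
        exact pT.commutes _
      rw [← e]; exact hspanT _
    induction hv using Submodule.span_induction with
    | mem z hz =>
      obtain ⟨a, rfl⟩ := hz
      refine ⟨KaehlerDifferential.map k k B U (D k B (Ideal.Quotient.mk _ a)), ?_⟩
      rw [hbU.lift_eq, Derivation.liftKaehlerDifferential_comp_D]
      exact funext fun l => hwd _ _ (hsec _) l
    | zero => exact ⟨0, map_zero _⟩
    | add y z _ _ h h' =>
      obtain ⟨w, rfl⟩ := h; obtain ⟨w', rfl⟩ := h'
      exact ⟨w + w', map_add _ _ _⟩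
    | smul c y _ h =>
      obtain ⟨w, rfl⟩ := h
      refine ⟨algebraMap k U c • w, ?_⟩
      rw [map_smul]
      show pU (algebraMap k U c) • LU w = c • LU w
      rw [AlgHom.commutes]; rfl
  haveI : Nontrivial U := pU.toRingHom.domain_nontrivial
  haveI : Module.Free U Ω[U⁄k] := inferInstance
  have hrk := Algebra.IsStandardSmoothOfRelativeDimension.rank_kaehlerDifferential (R := k) (S := U) (r - 1)
  let bU : Basis (Fin (r - 1)) U Ω[U⁄k] :=
    (Module.finBasisOfFinrankEq U Ω[U⁄k] (Module.finrank_eq_of_rank_eq hrk))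
  have htop : Submodule.span k (Set.range fun i => LU (bU i)) = ⊤ := by
    refine eq_top_iff.2 fun v _ => ?_
    obtain ⟨w, rfl⟩ := hsur v
    rw [← bU.sum_repr w, map_sum]
    refine Submodule.sum_mem _ fun i _ => ?_
    rw [map_smul]
    exact Submodule.smul_mem _ (pU (bU.repr w i)) (Submodule.subset_span ⟨i, rfl⟩)
  have h1 := finrank_range_le_card (R := k) fun i => LU (bU i)
  rw [Set.finrank, htop, finrank_top, Module.finrank_fin_fun, Fintype.card_fin] at h1
  omega

end Groth.Agent.LefDualLib
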