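import Groth.Agent.LefDualLib.Cut
import Groth.Agent.S4026
import Groth.Agent.CompleteCurve.ProjSpace
import Mathlib.AlgebraicGeometry.AlgClosed.Basic

/-!
# The forms cutting an embedded smooth variety in a singular section
-/

set_option autoImplicit false
set_option maxHeartbeats 600000
set_option backward.isDefEq.respectTransparency false
set_option backward.isDefEq.respectTransparency.types false
set_option linter.style.haveILetI false
universe u
open CategoryTheory CategoryTheory.Limits AlgebraicGeometry MvPolynomial TopologicalSpace KaehlerDifferential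
open Groth.Agent.AmpleEmb Groth.Agent.BertiniProjLib

noncomputable section

namespace Groth.Agent.LefDualLib

variable {k : Type u} [Field k]

/-- The point of the spectrum of a field. -/
abbrev pt : (Spec (CommRingCat.of k) : Scheme.{u}) := IsLocalRing.closedPoint k

/-- The value of a section at a rational point. -/
def pval {Z : Scheme.{u}} (q : Spec (CommRingCat.of k) ⟶ Z) (U : Z.Opens) (h : q pt ∈ U) : Γ(Z, U) →+* k :=
  (Scheme.ΓSpecIso (CommRingCat.of k)).hom.hom.comp
    (q.appLE U ⊤ fun y _ => by rw [Scheme.Hom.mem_preimage, Subsingleton.elim y pt]; exact h).hom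

theorem pval_res {Z : Scheme.{u}} (q : Spec (CommRingCat.of k) ⟶ Z) {U W : Z.Opens} (hWU : W ≤ U) (h : q pt ∈ W)
    (s : Γ(Z, U)) : pval q W h (Z.presheaf.map (homOfLE hWU).op s) = pval q U (hWU h) s := by
  simp only [pval, RingHom.comp_apply, ← CommRingCat.comp_apply, Scheme.Hom.map_appLE]

theorem pval_comp {Z Z' : Scheme.{u}} (q : Spec (CommRingCat.of k) ⟶ Z) (f : Z ⟶ Z') (U : Z'.Opens)
    (h : f (q pt) ∈ U) (s : Γ(Z', U)) :
    pval q (f ⁻¹ᵁ U) h (f.app U s) = pval (q ≫ f) U (by simpa using h) s := by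
  simp only [pval, RingHom.comp_apply, ← CommRingCat.comp_apply, Scheme.Hom.comp_appLE]

theorem pval_congr {Z : Scheme.{u}} {q q' : Spec (CommRingCat.of k) ⟶ Z} (e : q = q') {U : Z.Opens} (h : q pt ∈ U)
    (s : Γ(Z, U)) : pval q U h s = pval q' U (e ▸ h) s := by
  subst e; rfl

theorem pval_basicOpen {Z : Scheme.{u}} (q : Spec (CommRingCat.of k) ⟶ Z) (U : Z.Opens) (h : q pt ∈ U)
    (s : Γ(Z, U)) : q pt ∈ Z.basicOpen s ↔ pval q U h s ≠ 0 := by
  have e : ⊤ ≤ q ⁻¹ᵁ U := fun y _ => by rw [Scheme.Hom.mem_preimage, Subsingleton.elim y pt]; exact h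
  let t := q.appLE U ⊤ e s
  have ht : (Spec (CommRingCat.of k)).basicOpen t = q ⁻¹ᵁ Z.basicOpen s := by
    show (Spec (CommRingCat.of k)).basicOpen ((Spec (CommRingCat.of k)).presheaf.map _ (q.app U s)) = _
    rw [Scheme.basicOpen_res, ← Scheme.preimage_basicOpen, top_inf_eq]
  rw [← Scheme.Hom.mem_preimage, ← ht]
  show pt ∈ _ ↔ (Scheme.ΓSpecIso (CommRingCat.of k)).hom t ≠ 0
  rw [basicOpen_eq_of_affine', PrimeSpectrum.mem_basicOpen]
  show _ ∉ IsLocalRing.maximalIdeal k ↔ _
  rw [(IsLocalRing.isField_iff_maximalIdeal_eq (R := k)).1 (Field.toIsField k), Ideal.mem_bot]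

theorem pval_toGlobal {Z : Scheme.{u}} (q : Spec (CommRingCat.of k) ⟶ Z) {A : Type u} [CommRing A]
    (g : Z ⟶ Spec (CommRingCat.of A)) (e : A →+* k) (he : q ≫ g = Spec.map (CommRingCat.ofHom e)) (a : A) :
    pval q ⊤ trivial (Coh.toGlobal g a) = e a := by
  show pval q (g ⁻¹ᵁ ⊤) trivial (g.app ⊤ _) = _
  rw [pval_comp, pval_congr he]
  show (Scheme.ΓSpecIso (CommRingCat.of k)).hom ((Spec.map (CommRingCat.ofHom e)).appLE ⊤ ⊤ _ _) = _
  rw [Scheme.Hom.appLE, ← CommRingCat.comp_apply, ← CommRingCat.comp_apply]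
  have : (Scheme.ΓSpecIso (CommRingCat.of A)).inv ≫ ((Spec.map (CommRingCat.ofHom e)).app ⊤ ≫
      (Spec (CommRingCat.of k)).presheaf.map (homOfLE le_rfl).op) ≫ (Scheme.ΓSpecIso (CommRingCat.of k)).hom =
        CommRingCat.ofHom e := by
    simp
  exact ConcreteCategory.congr_hom this a

variable {r d : ℕ} {X : Scheme.{u}} (ι : X ⟶ CohB1.ProjSpace r k)

instance chartAlg (j : Fin (r + 1)) : Algebra k Γ(X, U ι j) := ((π ι j).comp C).toAlgebra

/-- The function of a form on a chart. -/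
def φ (j : Fin (r + 1)) : LefPen.Form r k d →ₗ[k] Γ(X, U ι j) where
  toFun G := π ι j (PlaneTwistLib.chartEqn G j)
  map_add' G H := by rw [S4026.chartEqn_add, map_add]
  map_smul' c G := by
    rw [S4026.chartEqn_smul, map_mul, RingHom.id_apply, Algebra.smul_def]
    rfl

/-- The structure morphism. -/
abbrev g0 : X ⟶ Spec (CommRingCat.of k) := ι ≫ CohB1.ProjSpace.toSpec r k

/-- The evaluation at a rational point as an algebra map. -/
def pA (q : Spec (CommRingCat.of k) ⟶ X) (hq : q ≫ g0 ι = 𝟙 _) (j : Fin (r + 1)) (h : q pt ∈ U ι j) :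
    Γ(X, U ι j) →ₐ[k] k :=
  { pval q (U ι j) h with
    commutes' := fun c => by
      show pval q (U ι j) h (((π ι j).comp C) c) = c
      rw [π_C]
      exact (pval_res q (le_top : U ι j ≤ ⊤) h (Coh.toGlobal (ι ≫ CohB1.ProjSpace.toSpec r k) c)).trans
        (pval_toGlobal q (ι ≫ CohB1.ProjSpace.toSpec r k) (RingHom.id k) (hq.trans (Spec.map_id _).symm) c) }

/-- The member `G` is singular at some rational point. -/
def Bad (G : LefPen.Form r k d) : Prop :=
  ∃ (q : Spec (CommRingCat.of k) ⟶ X) (hq : q ≫ g0 ι = 𝟙 _) (j : Fin (r + 1)) (h : q pt ∈ U ι j),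
    Sing (pA ι q hq j h) (φ ι j G)

variable [IsClosedImmersion ι]

theorem exists_point (j : Fin (r + 1)) (p : Γ(X, U ι j) →ₐ[k] k) :
    ∃ (q : Spec (CommRingCat.of k) ⟶ X) (hq : q ≫ g0 ι = 𝟙 _) (h : q pt ∈ U ι j), pA ι q hq j h = p := by
  have hV := isAffineOpen_U ι j
  let q := Spec.map (CommRingCat.ofHom p.toRingHom) ≫ hV.fromSpec
  have hqU : q pt ∈ U ι j := by
    rw [← SetLike.mem_coe, ← hV.range_fromSpec]
    exact ⟨_, rfl⟩
  have hq : q ≫ g0 ι = 𝟙 _ := by
    show (Spec.map _ ≫ hV.fromSpec) ≫ g0 ι = _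
    rw [Category.assoc, PlaneTwistLib.fromSpec_comp _ hV, ← Spec.map_comp, ← Spec.map_id]
    refine congrArg _ (CommRingCat.hom_ext (RingHom.ext fun c => ?_))
    show p.toRingHom (((X.presheaf.map _).hom.comp (Coh.toGlobal (g0 ι))) c) = c
    rw [← π_C]
    exact p.commutes c
  refine ⟨q, hq, hqU, AlgHom.ext fun s => ?_⟩
  show pval q (U ι j) hqU s = p s
  have e : q.appLE (U ι j) ⊤ (fun y _ => by rw [Scheme.Hom.mem_preimage, Subsingleton.elim y pt]; exact hqU) ≫
      (Scheme.ΓSpecIso (CommRingCat.of k)).hom = CommRingCat.ofHom p.toRingHom := by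
    simp only [q, Scheme.Hom.comp_appLE, hV.fromSpec_app_self, Category.assoc, Scheme.Hom.map_appLE_assoc]
    simp [Scheme.Hom.appLE]
    exact Iso.inv_hom_id_assoc (Scheme.ΓSpecIso Γ(X, U ι j)) _
  exact ConcreteCategory.congr_hom e s

theorem mk_ideal_sec (G : LefPen.Form r k d) (j : Fin (r + 1)) :
    (LefPen.secIdeal ι ({G} : Set (LefPen.Form r k d))).ideal ⟨U ι j, isAffineOpen_U ι j⟩ =
      Ideal.span {φ ι j G} := by
  have hJ : LefPen.secIdeal ι ({G} : Set (LefPen.Form r k d)) = (LefPen.hypIdeal G).comap ι :=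
    congrArg (fun I : (CohB1.ProjSpace r k).IdealSheafData => I.comap ι) iSup_singleton
  rw [hJ, IdealStalkLib.comap_ideal _ ι (PlaneTwistLib.isAffineOpen_chart k j) (isAffineOpen_U ι j) le_rfl]
  rcases eq_or_ne G 0 with rfl | hG
  · have hb : LefPen.hypIdeal (0 : LefPen.Form r k d) = ⊥ := by
      refine le_bot_iff.1 fun V c hc => ?_
      have hc' := Scheme.IdealSheafData.ideal_ofIdeals_le _ V hc
      have hcov : V.1 ≤ iSup fun i : Fin (r + 1) => V.1 ⊓ LefPen.chart r k i := fun x hx => by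
        obtain ⟨i, hi⟩ := Opens.mem_iSup.1 ((AmpleEmb.iSup_stdOpen r k).ge (Opens.mem_top x))
        exact Opens.mem_iSup.2 ⟨i, hx, hi⟩
      show c ∈ (⊥ : Ideal _)
      rw [Ideal.mem_bot]
      refine (CohB1.ProjSpace r k).sheaf.eq_of_locally_eq' _ V.1 (fun i => homOfLE inf_le_left) hcov _ _ fun i => ?_
      have h := (Submodule.mem_iInf _).1 hc' i
      have h0 : LefPen.dehom (0 : LefPen.Form r k d) i = 0 := by
        refine (congrArg _ (HomogeneousLocalization.val_injective _ ?_)).trans (map_zero _)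
        rw [HomogeneousLocalization.Away.val_mk, HomogeneousLocalization.val_zero]
        exact Localization.mk_zero _
      rw [Ideal.mem_comap, h0, map_zero, Ideal.span_singleton_eq_bot.2 rfl, Ideal.mem_bot] at h
      exact h.trans (map_zero _).symm
    rw [hb, map_zero, Ideal.span_singleton_eq_bot.2 rfl]
    show (⊥ : Ideal _).map _ = _
    exact Ideal.map_bot
  · rw [PlaneTwistLib.hypIdeal_chart G hG, Ideal.map_span, Set.image_singleton]
    show _ = Ideal.span {π ι j (PlaneTwistLib.chartEqn G j)}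
    rw [S4026.app_dehom]
    exact congrArg (fun z => Ideal.span {z}) (ConcreteCategory.congr_hom (Scheme.Hom.app_eq_appLE ι).symm _)

theorem sing_chart (G : LefPen.Form r k d) (q : Spec (CommRingCat.of k) ⟶ X) (hq : q ≫ g0 ι = 𝟙 _)
    (j j' : Fin (r + 1)) (h : q pt ∈ U ι j) (h' : q pt ∈ U ι j') [Algebra.Smooth k Γ(X, U ι j)]
    (hs : Sing (pA ι q hq j h) (φ ι j G)) : Sing (pA ι q hq j' h') (φ ι j' G) := by
  haveI : Module.Projective Γ(X, U ι j) Ω[Γ(X, U ι j)⁄k] := inferInstance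
  haveI : Module.Finite Γ(X, U ι j) Ω[Γ(X, U ι j)⁄k] := inferInstance
  obtain ⟨b, hbU, hxb⟩ := (isAffineOpen_U ι j').exists_basicOpen_le (V := U ι j) ⟨q pt, h⟩ h'
  have hbU' := X.basicOpen_le b
  let A' := Γ(X, U ι j')
  let AW := Γ(X, X.basicOpen b)
  haveI : IsLocalization.Away b AW := (isAffineOpen_U ι j').isLocalization_basicOpen b
  let J := LefPen.secIdeal ι ({G} : Set (LefPen.Form r k d))
  let Wb : X.affineOpens := ⟨X.basicOpen b, (isAffineOpen_U ι j').basicOpen b⟩
  let pW := pval q (X.basicOpen b) hxb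
  let m := RingHom.ker pW
  have hm' : ∀ s : A', pW (algebraMap A' AW s) = pA ι q hq j' h' s := fun s => pval_res q hbU' hxb s
  have h1 : X.presheaf.map (homOfLE hbU).op (φ ι j G) ∈ m ^ 2 := by
    have hmem := Ideal.mem_map_of_mem (X.presheaf.map (homOfLE hbU).op).hom (mem_sq_of_sing _ hs)
    rw [Ideal.map_pow] at hmem
    refine Ideal.pow_right_mono (Ideal.map_le_iff_le_comap.2 fun s hs => ?_) 2 hmem
    rw [Ideal.mem_comap, RingHom.mem_ker, pval_res q hbU hxb]
    exact hs
  have e : Ideal.span {X.presheaf.map (homOfLE hbU).op (φ ι j G)} =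
      Ideal.span {algebraMap A' AW (φ ι j' G)} := by
    have e1 := (J.map_ideal (U := Wb) (V := ⟨U ι j, isAffineOpen_U ι j⟩) hbU).trans
      (J.map_ideal (U := Wb) (V := ⟨U ι j', isAffineOpen_U ι j'⟩) hbU').symm
    rw [mk_ideal_sec, mk_ideal_sec, Ideal.map_span, Ideal.map_span, Set.image_singleton, Set.image_singleton] at e1
    exact e1
  have h2 : algebraMap A' AW (φ ι j' G) ∈ m ^ 2 :=
    (Ideal.span_singleton_le_iff_mem _).1 (e ▸ (Ideal.span_singleton_le_iff_mem _).2 h1)
  have h3 : m = (RingHom.ker (pA ι q hq j' h')).map (algebraMap A' AW) := by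
    rw [← IsLocalization.map_under (Submonoid.powers b) AW m]
    congr 1
    refine Ideal.ext fun s => ?_
    show pW (algebraMap A' AW s) = 0 ↔ pA ι q hq j' h' s = 0
    rw [hm']
  rw [h3, ← Ideal.map_pow, IsLocalization.algebraMap_mem_map_algebraMap_iff (Submonoid.powers b)] at h2
  obtain ⟨-, ⟨l, rfl⟩, hl⟩ := h2
  have hs' := sing_of_mem_sq _ hl
  have hb0 : pA ι q hq j' h' b ≠ 0 := (pval_basicOpen q _ h' b).1 hxb
  have hp0 : pA ι q hq j' h' (φ ι j' G) = 0 := by
    have := hs'.1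
    rw [map_mul, map_pow] at this
    exact (mul_eq_zero.1 this).resolve_left (pow_ne_zero _ hb0)
  refine ⟨hp0, fun ψ => ?_⟩
  have := hs'.2 ψ
  rw [Derivation.leibniz, map_add, map_smul, map_smul, smul_eq_mul, smul_eq_mul, map_add, map_mul, map_mul, hp0, zero_mul,
    add_zero, map_pow] at this
  exact (mul_eq_zero.1 this).resolve_left (pow_ne_zero _ hb0)

end Groth.Agent.LefDualLib
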