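import Groth.Agent.LefDualLib.Trans

/-!
# The singular members form an irreducible family
-/

set_option autoImplicit false
set_option maxHeartbeats 600000
set_option backward.isDefEq.respectTransparency false
set_option backward.isDefEq.respectTransparency.types false
set_option linter.style.haveILetI false
universe u
open CategoryTheory CategoryTheory.Limits AlgebraicGeometry MvPolynomial TopologicalSpace KaehlerDifferential
open Groth.Agent.AmpleEmb Groth.Agent.BertiniProjLib

noncomputable section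

namespace Groth.Agent.LefDualLib

variable {k : Type u} [Field k]

theorem exists_eval_of_isPolyFun {V : Type u} [AddCommGroup V] [Module k V] {N : ℕ} (B : Module.Basis (Fin N) k V)
    {f : V → k} (hf : LefPen.IsPolyFun k f) :
    ∃ P : MvPolynomial (Fin N) k, ∀ v, f v = MvPolynomial.eval (B.equivFun v) P := by
  induction hf using Algebra.adjoin_induction with
  | mem x hx =>
    obtain ⟨l, rfl⟩ := hx
    refine ⟨∑ i, C (l (B i)) * MvPolynomial.X i, fun v => ?_⟩
    show l v = _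
    conv_lhs => rw [← B.sum_repr v, map_sum]
    simp only [map_smul, smul_eq_mul, map_sum, map_mul, eval_C, eval_X, Module.Basis.equivFun_apply]
    exact Finset.sum_congr rfl fun i _ => mul_comm _ _
  | algebraMap c => exact ⟨C c, fun v => by simp⟩
  | add x y _ _ hx hy =>
    obtain ⟨P, hP⟩ := hx; obtain ⟨Q, hQ⟩ := hy
    exact ⟨P + Q, fun v => by simp [hP, hQ]⟩
  | mul x y _ _ hx hy =>
    obtain ⟨P, hP⟩ := hx; obtain ⟨Q, hQ⟩ := hy
    exact ⟨P * Q, fun v => by simp [hP, hQ]⟩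

variable {r d : ℕ} {X : Scheme.{u}} (ι : X ⟶ CohB1.ProjSpace r k) [IsClosedImmersion ι]

/-- `f` vanishes on the forms singular at a point of the chart `j`. -/
def Vanish (f : LefPen.Form r k d → k) (j : Fin (r + 1)) : Prop :=
  ∀ (q : Spec (CommRingCat.of k) ⟶ X) (hq : q ≫ g0 ι = 𝟙 _) (h : q pt ∈ U ι j) (G : LefPen.Form r k d),
    Sing (pA ι q hq j h) (φ ι j G) → f G = 0

variable [IsAlgClosed k] (n : ℕ) [SmoothOfRelativeDimension n (ι ≫ CohB1.ProjSpace.toSpec r k)] [IsIntegral X]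
include ι n

theorem exists_chart_param (hd : 1 ≤ d) {N : ℕ} (B : Module.Basis (Fin N) k (LefPen.Form r k d)) (j : Fin (r + 1))
    [Nonempty (U ι j)] :
    ∃ P : (Fin N → Γ(X, U ι j)) →ₗ[Γ(X, U ι j)] (Fin N → Γ(X, U ι j)), ∀ F : MvPolynomial (Fin N) k,
      (∀ p : Γ(X, U ι j) →ₐ[k] k, MvPolynomial.map p.toRingHom (pull P F) = 0 ↔
        ∀ G : LefPen.Form r k d, Sing p (φ ι j G) → MvPolynomial.eval (B.equivFun G) F = 0) ∧
      (pull P F = 0 ↔ Vanish ι (fun G : LefPen.Form r k d => MvPolynomial.eval (B.equivFun G) F) j) := by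
  haveI := smooth_chartRing ι n j
  obtain ⟨x, E, hE, hxV, hx⟩ := exists_gens ι (d := d) hd j
  haveI : Algebra.FiniteType k Γ(X, U ι j) := Algebra.FiniteType.of_surjective _ hx
  haveI : IsReduced Γ(X, U ι j) := inferInstance
  haveI : Infinite k := IsAlgClosed.instInfinite
  obtain ⟨P, hP⟩ := exists_param B (φ ι j) (psi_surjective B (φ ι j) E hE x hx hxV)
  refine ⟨P, fun F => ⟨fun p => map_pull_eq_zero_iff B (φ ι j) (hP p) F, fun h q hq hh G hs => ?_, fun h => ?_⟩⟩
  · exact (map_pull_eq_zero_iff B (φ ι j) (hP (pA ι q hq j hh)) F).1 (by rw [h, map_zero]) G hs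
  · refine MvPolynomial.ext _ _ fun e => eq_zero_of_forall_point (k := k) fun p => ?_
    obtain ⟨q, hq, hh, rfl⟩ := exists_point ι j p
    have := (map_pull_eq_zero_iff B (φ ι j) (hP _) F).2 (h q hq hh)
    have h2 := congrArg (MvPolynomial.coeff e) this
    rwa [MvPolynomial.coeff_map, MvPolynomial.coeff_zero] at h2

theorem vanish_of_vanish (hd : 1 ≤ d) {f : LefPen.Form r k d → k} (hf : LefPen.IsPolyFun k f) {j0 : Fin (r + 1)}
    [Nonempty (U ι j0)] (hv : Vanish ι f j0) (j : Fin (r + 1)) : Vanish ι f j := by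
  intro q hq h G hs
  haveI : Nonempty (U ι j) := ⟨⟨_, h⟩⟩
  let B := Module.finBasis k (LefPen.Form r k d)
  obtain ⟨F, hF⟩ := exists_eval_of_isPolyFun B hf
  obtain rfl : f = fun G => MvPolynomial.eval (B.equivFun G) F := funext hF
  obtain ⟨P, hP⟩ := exists_chart_param ι n hd B j
  refine (hP F).2.1 ?_ q hq h G hs
  haveI := smooth_chartRing ι n j
  obtain ⟨x, -, -, -, hx⟩ := exists_gens ι (d := d) hd j
  haveI : Algebra.FiniteType k Γ(X, U ι j) := Algebra.FiniteType.of_surjective _ hx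
  obtain ⟨z, hz, hz0⟩ := nonempty_preirreducible_inter (U ι j).isOpen (U ι j0).isOpen
    ⟨_, h⟩ ⟨_, (Classical.arbitrary (U ι j0)).2⟩
  obtain ⟨b, hbU, hzb⟩ := (isAffineOpen_U ι j).exists_basicOpen_le (V := U ι j0) ⟨z, hz0⟩ hz
  have hb0 : b ≠ 0 := by
    intro hb
    rw [hb, Scheme.basicOpen_zero] at hzb
    exact hzb
  refine MvPolynomial.ext _ _ fun e => ?_
  have hbc : b * MvPolynomial.coeff e (pull P F) = 0 := eq_zero_of_forall_point (k := k) fun p => by
    rw [map_mul]
    rcases eq_or_ne (p b) 0 with hpb | hpb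
    · rw [hpb, zero_mul]
    obtain ⟨q', hq', h', rfl⟩ := exists_point ι j p
    have h0 : q' pt ∈ U ι j0 := hbU ((pval_basicOpen q' _ h' b).2 hpb)
    have := ((hP F).1 (pA ι q' hq' j h')).2 fun G' hs' => hv q' hq' h0 G' (sing_chart ι G' q' hq' j j0 h' h0 hs')
    have h2 := congrArg (MvPolynomial.coeff e) this
    rw [MvPolynomial.coeff_map, MvPolynomial.coeff_zero] at h2
    exact mul_eq_zero_of_right _ h2
  rw [MvPolynomial.coeff_zero]
  exact (mul_eq_zero.1 hbc).resolve_left hb0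

theorem irreducible_bad (hd : 1 ≤ d) {f g : LefPen.Form r k d → k} (hf : LefPen.IsPolyFun k f)
    (hg : LefPen.IsPolyFun k g) (hfg : ∀ G, Bad ι G → f G * g G = 0) :
    (∀ G, Bad ι G → f G = 0) ∨ (∀ G, Bad ι G → g G = 0) := by
  obtain ⟨z⟩ : Nonempty X := inferInstance
  obtain ⟨j0, hj0⟩ := exists_mem_U ι z
  haveI : Nonempty (U ι j0) := ⟨⟨z, hj0⟩⟩
  let B := Module.finBasis k (LefPen.Form r k d)
  obtain ⟨F, hF⟩ := exists_eval_of_isPolyFun B hf
  obtain ⟨F', hF'⟩ := exists_eval_of_isPolyFun B hg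
  obtain ⟨P, hP⟩ := exists_chart_param ι n hd B j0
  have h0 : pull P (F * F') = 0 := (hP _).2.2 fun q hq h G hs => by
    show MvPolynomial.eval (B.equivFun G) (F * F') = 0
    rw [map_mul, ← hF, ← hF']
    exact hfg G ⟨q, hq, j0, h, hs⟩
  rw [pull, map_mul] at h0
  have key : ∀ (f : LefPen.Form r k d → k) (hf : LefPen.IsPolyFun k f) (F : MvPolynomial _ k),
      (∀ G, f G = MvPolynomial.eval (B.equivFun G) F) → pull P F = 0 → ∀ G, Bad ι G → f G = 0 := by
    rintro f hf F hF hz G ⟨q, hq, j, h, hs⟩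
    refine vanish_of_vanish ι n hd hf (j0 := j0) (fun q hq h G hs => ?_) j q hq h G hs
    rw [hF]; exact (hP F).2.1 hz q hq h G hs
  exact (mul_eq_zero.1 h0).imp (key f hf F hF) (key g hg F' hF')

end Groth.Agent.LefDualLib
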