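import Groth.Agent.LefDualLib.Irred

/-!
# The forms with a singular point form a closed cone
-/

set_option autoImplicit false
set_option maxHeartbeats 600000
set_option backward.isDefEq.respectTransparency false
set_option backward.isDefEq.respectTransparency.types false
set_option linter.style.haveILetI false
universe u
open CategoryTheory CategoryTheory.Limits AlgebraicGeometry MvPolynomial TopologicalSpace KaehlerDifferential
open Groth.Agent.AmpleEmb Groth.Agent.BertiniProjLib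

noncomputable section

namespace Groth.Agent.LefDualLib

variable {k : Type u} [Field k]

/-- The affine space with its structure map. -/
abbrev τ (k : Type u) [Field k] (N : ℕ) :
    Spec (CommRingCat.of (MvPolynomial (Fin N) k)) ⟶ Spec (CommRingCat.of k) :=
  Spec.map (CommRingCat.ofHom MvPolynomial.C)

/-- A rational point of affine space. -/
abbrev ev {N : ℕ} (c : Fin N → k) : Spec (CommRingCat.of k) ⟶ Spec (CommRingCat.of (MvPolynomial (Fin N) k)) :=
  Spec.map (CommRingCat.ofHom (MvPolynomial.eval c))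

theorem ev_τ {N : ℕ} (c : Fin N → k) : ev c ≫ τ k N = 𝟙 _ := by
  rw [← Spec.map_comp, ← Spec.map_id]
  exact congrArg _ (CommRingCat.hom_ext (RingHom.ext fun a => MvPolynomial.eval_C a))

theorem mem_basicOpen_ev {N : ℕ} (c : Fin N → k) (Q : MvPolynomial (Fin N) k) :
    ev c pt ∈ PrimeSpectrum.basicOpen Q ↔ MvPolynomial.eval c Q ≠ 0 := by
  rw [PrimeSpectrum.mem_basicOpen]
  show MvPolynomial.eval c Q ∉ IsLocalRing.maximalIdeal k ↔ _
  rw [(IsLocalRing.isField_iff_maximalIdeal_eq (R := k)).1 (Field.toIsField k), Ideal.mem_bot]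

variable {r d : ℕ} {X : Scheme.{u}} (ι : X ⟶ CohB1.ProjSpace r k) [IsClosedImmersion ι]
  [IsAlgClosed k] (n : ℕ) [SmoothOfRelativeDimension n (ι ≫ CohB1.ProjSpace.toSpec r k)] [IsIntegral X]
include ι n

theorem exists_avoid (hd : 1 ≤ d) (v : LefPen.Form r k d) (hv : ¬ Bad ι v) :
    ∃ f : LefPen.Form r k d → k, LefPen.IsPolyFun k f ∧ f v ≠ 0 ∧ ∀ G, f G ≠ 0 → ¬ Bad ι G := by
  classical
  let B := Module.finBasis k (LefPen.Form r k d)
  let N := Module.finrank k (LefPen.Form r k d)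
  let c : LefPen.Form r k d → Fin N → k := fun G => B.equivFun G
  haveI : LocallyOfFiniteType (τ k N) := by
    rw [HasRingHomProperty.Spec_iff (P := @LocallyOfFiniteType), CommRingCat.hom_ofHom, ← MvPolynomial.algebraMap_eq,
      RingHom.finiteType_algebraMap]
    infer_instance
  let Y := pullback (g0 ι) (τ k N)
  let fst : Y ⟶ X := pullback.fst (g0 ι) (τ k N)
  let snd : Y ⟶ Spec (CommRingCat.of (MvPolynomial (Fin N) k)) := pullback.snd (g0 ι) (τ k N)
  haveI : IsProper (g0 ι) := inferInstance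
  haveI : UniversallyClosed snd := inferInstance
  haveI : LocallyOfFiniteType (snd ≫ τ k N) := inferInstance
  haveI : JacobsonSpace Y := LocallyOfFiniteType.jacobsonSpace (snd ≫ τ k N)
  let BS : Set Y := {y | ∃ (q : Spec (CommRingCat.of k) ⟶ X) (hq : q ≫ g0 ι = 𝟙 _) (G : LefPen.Form r k d)
    (j : Fin (r + 1)) (h : q pt ∈ U ι j), Sing (pA ι q hq j h) (φ ι j G) ∧
      y = pullback.lift q (ev (c G)) (hq.trans (ev_τ _).symm) pt}
  let C : Set _ := snd '' closure BS
  have hC : IsClosed C := snd.isClosedMap _ isClosed_closure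
  have hvC : ev (c v) pt ∉ C := by
    intro hmem
    let F : Set Y := closure BS ∩ snd ⁻¹' {ev (c v) pt}
    have hFc : IsClosed F := isClosed_closure.inter (((pointEquivClosedPoint (τ k N))
      ⟨ev (c v), ev_τ _⟩).2.preimage snd.continuous)
    obtain ⟨y0, hy0, hy0'⟩ := hmem
    obtain ⟨y, ⟨hyB, hyv⟩, hyc⟩ := nonempty_inter_closedPoints (Z := F) ⟨y0, hy0, hy0'⟩ hFc.isLocallyClosed
    let s := pointOfClosedPoint (snd ≫ τ k N) y hyc
    have hs : s ≫ snd ≫ τ k N = 𝟙 _ := pointOfClosedPoint_comp _ _ _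
    have hsy : s pt = y := pointOfClosedPoint_apply _ _ _ _
    let q := s ≫ fst
    have hq : q ≫ g0 ι = 𝟙 _ := by
      show (s ≫ pullback.fst (g0 ι) (τ k N)) ≫ g0 ι = 𝟙 _
      rw [Category.assoc, pullback.condition]
      exact hs
    have hsnd : s ≫ snd = ev (c v) := ext_of_apply_closedPoint_eq (τ k N) (by rw [Category.assoc]; exact hs) (ev_τ _) (by
      show snd (s pt) = _
      rw [hsy]; exact hyv)
    obtain ⟨j, hj⟩ := exists_mem_U ι (q pt)
    haveI := smooth_chartRing ι n j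
    -- linear functions of the member with values in the chart, vanishing at the singular pairs
    have key : ∀ ℓ : LefPen.Form r k d →ₗ[k] Γ(X, U ι j),
        (∀ (q' : Spec (CommRingCat.of k) ⟶ X) (hq' : q' ≫ g0 ι = 𝟙 _) (h' : q' pt ∈ U ι j) (G' : LefPen.Form r k d),
          Sing (pA ι q' hq' j h') (φ ι j G') → pA ι q' hq' j h' (ℓ G') = 0) →
        pA ι q hq j hj (ℓ v) = 0 := by
      intro ℓ hℓ
      let T : Fin N → Γ(Y, fst ⁻¹ᵁ U ι j) := fun i =>
        Y.presheaf.map (homOfLE (le_top : fst ⁻¹ᵁ U ι j ≤ ⊤)).op (Coh.toGlobal snd (MvPolynomial.X i))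
      let σ : Γ(Y, fst ⁻¹ᵁ U ι j) := ∑ i, fst.app (U ι j) (ℓ (B i)) * T i
      have hval : ∀ (z : Spec (CommRingCat.of k) ⟶ Y) (G : LefPen.Form r k d) (hz : z pt ∈ fst ⁻¹ᵁ U ι j)
          (hz1 : (z ≫ fst) ≫ g0 ι = 𝟙 _), z ≫ snd = ev (c G) →
          pval z (fst ⁻¹ᵁ U ι j) hz σ = pA ι (z ≫ fst) hz1 j hz (ℓ G) := by
        intro z G hz hz1 hz2
        have e : ℓ G = ∑ i, c G i • ℓ (B i) := by
          conv_lhs => rw [← B.sum_equivFun G, map_sum]
          exact Finset.sum_congr rfl fun i _ => map_smul _ _ _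
        rw [e, map_sum, map_sum]
        refine Finset.sum_congr rfl fun i _ => ?_
        rw [map_mul, map_smul, smul_eq_mul, mul_comm (c G i)]
        refine congrArg₂ (· * ·) (pval_comp z fst _ hz _) ?_
        refine (pval_res z le_top hz _).trans ((pval_toGlobal z snd (MvPolynomial.eval (c G)) hz2 _).trans ?_)
        exact MvPolynomial.eval_X i
      by_contra hne
      have hsj : s pt ∈ fst ⁻¹ᵁ U ι j := hj
      have hyO : y ∈ Y.basicOpen σ := by
        rw [← hsy]
        refine (pval_basicOpen s _ hsj σ).2 ?_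
        rw [hval s v hsj hq hsnd]
        exact hne
      obtain ⟨y', hy'O, q', hq', G', j', h', hsing, rfl⟩ := mem_closure_iff.1 hyB _ (Y.basicOpen σ).isOpen hyO
      let z := pullback.lift (f := g0 ι) (g := τ k N) q' (ev (c G')) (hq'.trans (ev_τ _).symm)
      have hz' : z pt ∈ fst ⁻¹ᵁ U ι j := Y.basicOpen_le σ hy'O
      have hzf : z ≫ fst = q' := pullback.lift_fst _ _ _
      have h1 : q' pt ∈ U ι j := by rw [← hzf]; exact hz'
      refine (pval_basicOpen z _ hz' σ).1 hy'O ?_
      rw [hval z G' hz' (by rw [hzf]; exact hq') (pullback.lift_snd _ _ _)]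
      haveI := smooth_chartRing ι n j'
      refine (pval_congr (U := U ι j) hzf hz' (ℓ G')).trans ?_
      exact hℓ q' hq' h1 G' (sing_chart ι G' q' hq' j' j h' h1 hsing)
    refine hv ⟨q, hq, j, hj, key (φ ι j) fun _ _ _ _ h => h.1, fun ψ => ?_⟩
    exact key ((ψ.restrictScalars k).comp ((D k Γ(X, U ι j)).toLinearMap.comp (φ ι j))) fun _ _ _ _ h => h.2 ψ
  obtain ⟨-, ⟨Q, rfl⟩, hQv, hQC⟩ :=
    PrimeSpectrum.isTopologicalBasis_basic_opens.exists_subset_of_mem_open hvC hC.isOpen_compl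
  refine ⟨fun G => MvPolynomial.eval (c G) Q, S4026.isPolyFun_eval B.equivFun.toLinearMap Q,
    (mem_basicOpen_ev (c v) Q).1 hQv, fun G hG hbad => ?_⟩
  obtain ⟨q, hq, j, h, hs⟩ := hbad
  refine hQC ((mem_basicOpen_ev (c G) Q).2 hG) ⟨pullback.lift q (ev (c G)) (hq.trans (ev_τ _).symm) pt,
    subset_closure ⟨q, hq, G, j, h, hs, rfl⟩, ?_⟩
  show (pullback.lift q (ev (c G)) _ ≫ snd) pt = _
  rw [pullback.lift_snd]

end Groth.Agent.LefDualLib
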