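import Groth.Agent.LefDualLib.Geom

/-!
# Transversal sections are those without singular points
-/

set_option autoImplicit false
set_option maxHeartbeats 600000
set_option backward.isDefEq.respectTransparency false
set_option backward.isDefEq.respectTransparency.types false
set_option linter.style.haveILetI false
universe u
open CategoryTheory CategoryTheory.Limits AlgebraicGeometry MvPolynomial TopologicalSpace KaehlerDifferential
open Groth.Agent.AmpleEmb Groth.Agent.BertiniProjLib

noncomputable section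

namespace Groth.Agent.LefDualLib

variable {k : Type u} [Field k]

theorem exists_algHom_of_isMaximal [IsAlgClosed k] {A : Type u} [CommRing A] [Algebra k A] [Algebra.FiniteType k A]
    (m : Ideal A) [m.IsMaximal] : ∃ p : A →ₐ[k] k, RingHom.ker p = m := by
  haveI : IsJacobsonRing A := isJacobsonRing_of_finiteType (A := k)
  haveI : Algebra.FiniteType k (A ⧸ m) :=
    Algebra.FiniteType.of_surjective (Ideal.Quotient.mkₐ k m) Ideal.Quotient.mk_surjective
  letI : Field (A ⧸ m) := Ideal.Quotient.field m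
  haveI : Module.Finite k (A ⧸ m) := finite_of_finite_type_of_isJacobsonRing k (A ⧸ m)
  have hb := IsAlgClosed.ringHom_bijective_of_isIntegral (algebraMap k (A ⧸ m)) (RingHom.IsIntegral.of_finite (by
    rw [RingHom.finite_algebraMap]; infer_instance))
  let e : k ≃ₐ[k] A ⧸ m := AlgEquiv.ofBijective (Algebra.ofId k (A ⧸ m)) hb
  refine ⟨e.symm.toAlgHom.comp (Ideal.Quotient.mkₐ k m), Ideal.ext fun a => ?_⟩
  rw [RingHom.mem_ker, ← Ideal.Quotient.eq_zero_iff_mem]
  exact map_eq_zero_iff e.symm e.symm.injective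

variable {r d : ℕ} {X : Scheme.{u}} (ι : X ⟶ CohB1.ProjSpace r k) [IsClosedImmersion ι]

theorem exists_gens (hd : 1 ≤ d) (j : Fin (r + 1)) :
    ∃ (x : Fin r → Γ(X, U ι j)) (E : LefPen.Form r k d), φ ι j E = 1 ∧ (∀ i, ∃ G : LefPen.Form r k d, φ ι j G = x i) ∧
      Function.Surjective (MvPolynomial.aeval x : MvPolynomial (Fin r) k →ₐ[k] Γ(X, U ι j)) := by
  obtain ⟨⟨E, hE⟩, hX⟩ := S4026.exists_chartEqn_eq (k := k) (r := r) hd j
  refine ⟨fun i => π ι j (MvPolynomial.X i), E, (congrArg (π ι j) hE).trans (map_one _), fun i => ?_, ?_⟩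
  · obtain ⟨G, hG⟩ := hX i
    exact ⟨G, congrArg (π ι j) hG⟩
  · intro a
    obtain ⟨p, rfl⟩ := π_surjective ι j a
    refine ⟨p, ?_⟩
    induction p using MvPolynomial.induction_on with
    | C c => rw [MvPolynomial.aeval_C]; rfl
    | add p q hp hq => rw [map_add, map_add, hp, hq]
    | mul_X p i hp => rw [map_mul, map_mul, hp, MvPolynomial.aeval_X]

variable (n : ℕ) [SmoothOfRelativeDimension n (ι ≫ CohB1.ProjSpace.toSpec r k)]
include ι n

theorem smooth_chartRing (j : Fin (r + 1)) : Algebra.Smooth k Γ(X, U ι j) := by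
  haveI : Smooth (ι ≫ CohB1.ProjSpace.toSpec r k) := SmoothOfRelativeDimension.smooth n _
  exact RingHom.smooth_algebraMap.1 (smooth_chart ι j)

theorem isIntegral_of_smooth [IrreducibleSpace X] : IsIntegral X := by
  haveI : Smooth (ι ≫ CohB1.ProjSpace.toSpec r k) := SmoothOfRelativeDimension.smooth n _
  haveI : IsReduced X := ASp.isReduced_of_smooth (ι ≫ CohB1.ProjSpace.toSpec r k)
  exact isIntegral_of_irreducibleSpace_of_isReduced X

theorem hdim_chart [IsIntegral X] (j : Fin (r + 1)) :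
    ∀ P ∈ minimalPrimes Γ(X, U ι j), ringKrullDim (Γ(X, U ι j) ⧸ P) = n := by
  intro P hP
  haveI : Smooth (ι ≫ CohB1.ProjSpace.toSpec r k) := SmoothOfRelativeDimension.smooth n _
  have hne : Nonempty (U ι j) := by
    by_contra hne
    have e : U ι j = ⊥ := Opens.ext (Set.eq_empty_of_forall_notMem fun y hy => hne ⟨⟨y, hy⟩⟩)
    have : Subsingleton Γ(X, U ι j) := by
      rw [e]; exact CommRingCat.subsingleton_of_isTerminal X.sheaf.isTerminalOfEmpty
    exact hP.1.1.ne_top (Subsingleton.elim _ _)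
  haveI := hne
  haveI : IsDomain Γ(X, U ι j) := inferInstance
  rw [IsDomain.minimalPrimes_eq_singleton_bot, Set.mem_singleton_iff] at hP
  subst hP
  rw [ringKrullDim_eq_of_ringEquiv (RingEquiv.quotientBot _)]
  have hU := isAffineOpen_U ι j
  obtain ⟨⟨y, hy⟩⟩ := hne
  haveI : Nonempty X := ⟨y⟩
  have h1 : topologicalKrullDim ↥(U ι j) = (n : WithBot ℕ∞) := by
    rw [DimFormulaLib.topologicalKrullDim_opens (ι ≫ CohB1.ProjSpace.toSpec r k) _ ⟨y, hy⟩]
    exact JacLib.topologicalKrullDim_of_smooth (ι ≫ CohB1.ProjSpace.toSpec r k) n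
  rw [← h1, ← PrimeSpectrum.topologicalKrullDim_eq_ringKrullDim]
  exact (IsHomeomorph.topologicalKrullDim_eq _ (Scheme.Hom.homeomorph hU.isoSpec.hom).isHomeomorph).symm

theorem not_transversal_iff [IsAlgClosed k] [IsIntegral X] (hn : 1 ≤ n) (hd : 1 ≤ d) (G : LefPen.Form r k d) :
    ¬ LefPen.Transversal k n 1 (LefPen.secToSpec ι ({G} : Set (LefPen.Form r k d))) ↔ Bad ι G := by
  classical
  let J := LefPen.secIdeal ι ({G} : Set (LefPen.Form r k d))
  let W : Fin (r + 1) → X.affineOpens := fun j => ⟨U ι j, isAffineOpen_U ι j⟩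
  have e1 : ∀ j, J.subschemeCover.f (W j) ≫ J.subschemeι ≫ ι ≫ CohB1.ProjSpace.toSpec r k =
      Spec.map (CommRingCat.ofHom ((Ideal.Quotient.mk (J.ideal (W j))).comp ((π ι j).comp C))) := fun j => by
    rw [← Category.assoc, J.subschemeCover_map_subschemeι, J.glueDataObjι_ι, Category.assoc,
      PlaneTwistLib.fromSpec_comp _ (W j).2, ← Spec.map_comp, π_C]
    rfl
  have key : ∀ j (I : Ideal Γ(X, U ι j)), I = Ideal.span {φ ι j G} →
      (SmoothOfRelativeDimension (n - 1) (Spec.map (CommRingCat.ofHom ((Ideal.Quotient.mk I).comp ((π ι j).comp C)))) ↔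
      SmoothOfRelativeDimension (n - 1)
        (Spec.map (CommRingCat.ofHom (algebraMap k (Γ(X, U ι j) ⧸ Ideal.span {φ ι j G}))))) := by
    rintro j I rfl
    exact Iff.rfl
  constructor
  · intro hnt
    by_contra hbad
    refine hnt (Or.inl ⟨hn, ?_⟩)
    show SmoothOfRelativeDimension (n - 1) (J.subschemeι ≫ ι ≫ CohB1.ProjSpace.toSpec r k)
    let idx : J.subscheme → Fin (r + 1) := fun x => (exists_mem_U ι (J.subschemeι x)).choose
    let 𝒰 : J.subscheme.AffineOpenCover :=
      { I₀ := ULift.{u} (Fin (r + 1))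
        X := fun j => .of (Γ(X, (W j.down).1) ⧸ J.ideal (W j.down))
        f := fun j => J.subschemeCover.f (W j.down)
        idx := fun x => ⟨idx x⟩
        covers := fun x => (J.opensRange_subschemeCover_map _).ge (exists_mem_U ι (J.subschemeι x)).choose_spec }
    refine IsZariskiLocalAtSource.of_openCover 𝒰.openCover fun (j : ULift.{u} (Fin (r + 1))) => ?_
    show SmoothOfRelativeDimension (n - 1) (J.subschemeCover.f (W j.down) ≫ J.subschemeι ≫ ι ≫ CohB1.ProjSpace.toSpec r k)
    rw [e1]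
    refine (key j.down _ (mk_ideal_sec ι G j.down)).2 (S4026.smoothRel_spec _ fun q hq => ?_)
    haveI := smooth_chartRing ι n j.down
    obtain ⟨x, -, -, -, hx⟩ := exists_gens ι (d := d) hd j.down
    haveI : Algebra.FiniteType k Γ(X, U ι j.down) := Algebra.FiniteType.of_surjective _ hx
    refine smooth_cut x hx (hdim_chart ι n j.down) _ (fun P hP hmem => ?_) q hq
    obtain ⟨m, hm, hPm⟩ := P.exists_le_maximal hP.ne_top
    obtain ⟨p, hp⟩ := exists_algHom_of_isMaximal (k := k) m
    obtain ⟨q', hq', h', rfl⟩ := exists_point ι j.down p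
    by_contra! hcon
    refine hbad ⟨q', hq', j.down, h', ?_, fun ψ => ?_⟩
    · exact RingHom.mem_ker.1 (hp.ge (hPm hmem))
    · exact RingHom.mem_ker.1 (hp.ge (hPm (hcon ψ)))
  · rintro ⟨q, hq, j, h, hs⟩ (⟨-, hsm⟩ | ⟨hlt, -⟩)
    · haveI := smooth_chartRing ι n j
      obtain ⟨x, -, -, -, hx⟩ := exists_gens ι (d := d) hd j
      refine not_smooth_of_sing x hx (hdim_chart ι n j) hn (φ ι j G) _ hs ((key j _ (mk_ideal_sec ι G j)).1 ?_)
      rw [← e1]
      exact IsZariskiLocalAtSource.comp (P := @SmoothOfRelativeDimension (n - 1)) hsm _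
    · omega

end Groth.Agent.LefDualLib
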